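import Cfsg.Agent.H0.TC
set_option maxRecDepth 100000
namespace H0.TCU623
open H0
noncomputable def r0 : TC.WTr := (.node (.node (.node (.node (.node (.node (.leaf [1] 0 0 false) (.leaf [2] 2 1 false)) (.node (.leaf [4, 3, 1, 2, 4] 18 0 false) (.leaf [1, 1, 3, 3, 0, 0] 11 6 false))) (.node (.node (.leaf [4, 3, 0, 2, 4] 18 5 true) (.leaf [0, 2, 2, 1] 10 0 true)) (.leaf [0, 0, 5, 1, 1, 2] 11 4 true))) (.node (.node (.node (.leaf [3, 3, 1, 4] 10 0 false) (.leaf [4] 4 0 false)) (.node (.leaf [5, 1, 4, 1, 2] 17 2 false) (.leaf [5] 5 0 false))) (.node (.node (.leaf [4, 1, 2, 2, 5] 17 4 false) (.leaf [2, 4, 3, 4, 5] 16 5 false)) (.leaf [3, 3, 3] 9 0 true)))) (.node (.node (.node (.node (.leaf [0, 5, 1, 1, 2, 2] 11 5 true) (.leaf [2] 2 1 false)) (.node (.leaf [3] 2 0 false) (.leaf [4, 5, 4, 5, 4] 6 1 false))) (.node (.node (.leaf [2, 4, 1, 4, 3] 18 3 false) (.leaf [0, 3, 3, 1] 10 4 false)) (.leaf [2, 1,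 4, 0] 10 2 true))) (.node (.node (.node (.leaf [2, 4, 0, 4, 3] 18 2 true) (.leaf [3, 4, 5, 4, 2] 16 1 false)) (.leaf [4, 0, 4, 3, 0] 18 3 true)) (.node (.node (.leaf [1, 1, 1] 8 0 true) (.leaf [0, 4, 1] 15 3 false)) (.leaf [4, 5, 4, 2, 4] 16 2 false))))) (.node (.node (.node (.node (.node (.leaf [0, 0, 0] 8 0 false) (.leaf [2] 2 1 false)) (.node (.leaf [0] 0 1 false) (.leaf [4, 2, 4, 3, 4] 16 4 false))) (.node (.node (.leaf [0] 0 1 false) (.leaf [5, 4, 5, 4, 5] 6 0 false)) (.leaf [4, 3, 4, 5, 4] 16 0 false))) (.node (.node (.node (.leaf [2, 0, 2, 0, 2, 0, 2] 12 0 false) (.leaf [1, 5, 0] 15 1 false)) (.node (.leaf [2, 2, 2] 9 0 false) (.leaf [5] 5 0 false))) (.node (.node (.leaf [5, 0, 4] 15 2 false) (.leaf [5] 5 0 false)) (.leaf [3, 0, 4, 0, 5] 17 3 true)))) (.node (.node (.node (.node (.leaf [4, 1, 5] 15 0 false) (.leaf [2] 2 1 false)) (.node (.leaf [1, 4, 0, 2] 10 3 true) (.leaf [3, 3, 0, 4,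 0] 17 2 true))) (.node (.node (.leaf [4, 0, 2, 2] 10 4 true) (.leaf [0, 5, 3, 3, 0] 17 0 true)) (.leaf [2] 2 1 false))) (.node (.node (.node (.leaf [4, 0, 5, 3, 3] 17 5 true) (.leaf [3, 0, 2, 4, 0] 18 0 true)) (.leaf [4, 1, 4, 3, 1] 18 4 false)) (.node (.node (.leaf [4, 0, 3, 3] 10 3 false) (.leaf [1, 4, 1, 2, 2] 17 3 false)) (.leaf [2] 2 1 false))))))
noncomputable def tS : Tr := (.leaf (nat_lit 0xffdf062c84571ce6b3ff8f9ae578597ce11ffe1535059459f06a3ff70cf91615474d5affd636113515cf586bff589aa159344d9f7ffdf51555b56ccd46fff74d6315183745d1ffc534eda85690e43bff3b0c65058a14c9cffc522a5072fe3e3d7ff1452f62cb343576ffd7f4b985614515c7ff2984f60d0862162ffc4e4d50658cc4313ff458c8588c730c4effdac134ec428972efff4c8f2134954ed3bffc282848e234bc4e3ff1f0286208c3b4edffce75708b1d8283b3ff09d5b4cc8a690bcffc71224271c0762fbff1e0de4d88833827ffc871d0f13c42721bff2142627d353949dffc84414bb0995b20fff4109b09873398e9ffc2520898384eb31fff205080946d200b8ffc9d1fcc61f8251bbff164582740025857ffc5612c001545414fff128521445025400ffc4f1249613800137ff000000a02709825))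
noncomputable def tJ : Tr := (.leaf (nat_lit 0x3002f17820621f673002f1053000e10520601b603022f320405d37403062a30650b50733103300b150e5070050c80033105700c0405f070050d520330006055d406b06443050b10050c50030404c0000103004c050d000033020d3220014000d100308d0400a000020021a603010a20050b000003000b100100000b120000a103002a0000010000a100100a000990000))
noncomputable def tQ : Tr := (.leaf (nat_lit 0x0))
noncomputable def tR : TC.WTr := r0
def hl : List ℕ := [4, 5]
def B : List (List ℕ) := [[0, 1], [1, 0], [2, 3], [3, 2], [4, 4], [5, 5], [4, 5, 4, 5, 4, 5], [4, 5, 4, 5, 4, 5, 4, 5, 4, 5, 4, 5], [0, 0, 0, 0], [2, 2, 2, 2], [0, 3, 3, 1, 4], [1, 1, 3, 3, 0, 0, 5], [0, 2, 0, 2, 0, 2, 0, 2], [0, 2, 1, 3, 0, 2, 1, 3, 0, 2, 1, 3, 0, 2, 1, 3, 0, 2, 1, 3, 0, 2, 1, 3], [0, 3, 0, 3, 0, 3, 0, 3, 0, 3, 0, 3, 0, 3, 0, 3, 0, 3, 0, 3, 0, 3, 0, 3], [0, 4, 1, 5], [2, 4, 3, 4, 5, 4], [1, 2, 2, 5, 1, 4], [1, 4, 3, 1, 2, 4]]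
def subs : List (List ℕ) := [[4], [5]]
def ex : List (List ℕ) := []
def inv (x : ℕ) : ℕ := [1, 0, 3, 2, 4, 5].getD x 0
noncomputable def rS : ℕ → ℕ := rowOf tS (nat_lit 8) (nat_lit 255) (nat_lit 70) (nat_lit 1180591620717411303423)
noncomputable def rJ : ℕ → ℕ := rowOf tJ (nat_lit 8) (nat_lit 255) (nat_lit 32) (nat_lit 4294967295)
noncomputable def C : TC.Cfg where
  S := look rS (nat_lit 10) (nat_lit 1023)
  J := look rJ (nat_lit 4) (nat_lit 15)
  Q := lookQ tQ (nat_lit 8) (nat_lit 1) (nat_lit 1)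
  R := tR.get
  hl := fun x => hl.contains x
  n := (nat_lit 36)
  M := (nat_lit 36)
  top := (nat_lit 576)
  nl := (nat_lit 6)
  need := (nat_lit 6)
  nr := (nat_lit 9)
theorem k0 : TC.chkRange C 0 1 = true := by decide +kernel
theorem rows0 : ∀ c < (0 + 1) * 64, c < C.M → TC.chkRow C c = true :=
  TC.rows_step (TC.rows_zero C) k0
theorem main {G : Type*} [Group G] (g : ℕ → G) (hB : ∀ r ∈ B, ev g r = 1) (H : Subgroup G)
    (hH : ∀ w ∈ subs, ev g w ∈ H) :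
    H.relIndex (Subgroup.closure (g '' {x | x < 6})) ≠ 0 ∧
      H.relIndex (Subgroup.closure (g '' {x | x < 6})) ≤ 36 :=
  TC.index_le C B subs ex inv hl tR.hint rfl (by decide +kernel) (by decide +kernel)
    (TC.rows_done rows0 (by decide +kernel)) g hB H hH
end H0.TCU623
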